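import Cfsg.Agent.AschPrime.QuadTable

/-! Numerical data for an overgroup of the normaliser of a degree five field in the unitary group over
four elements: a set of 55 points preserved by a copy of a projective linear group on eleven letters. -/

set_option autoImplicit false
set_option maxRecDepth 100000

namespace CfsgLib.AschPrime.FiveTwo

def tbl : QTable := ⟨2, 1, 1⟩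

def pw : Fin 11 → Fin 5 → Fin 5 → ℕ :=
  ![![![1, 0, 0, 0, 0], ![0, 1, 0, 0, 0], ![0, 0, 1, 0, 0], ![0, 0, 0, 1, 0], ![0, 0, 0, 0, 1]],
    ![![0, 3, 3, 0, 3], ![0, 1, 0, 2, 1], ![3, 3, 1, 2, 2], ![1, 3, 2, 3, 1], ![3, 1, 0, 0, 1]],
    ![![0, 2, 3, 0, 1], ![1, 1, 3, 3, 2], ![0, 1, 0, 2, 3], ![1, 2, 0, 0, 1], ![3, 2, 2, 2, 2]],
    ![![1, 1, 3, 2, 2], ![0, 0, 1, 1, 2], ![0, 3, 3, 3, 0], ![3, 0, 3, 3, 0], ![2, 2, 3, 1, 3]],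
    ![![1, 3, 3, 2, 3], ![3, 2, 3, 1, 1], ![1, 3, 2, 2, 1], ![1, 2, 0, 3, 0], ![1, 1, 0, 1, 0]],
    ![![2, 0, 3, 1, 0], ![0, 0, 3, 1, 1], ![0, 1, 2, 3, 0], ![3, 3, 2, 1, 2], ![1, 1, 1, 1, 3]],
    ![![3, 0, 0, 2, 1], ![0, 0, 1, 2, 1], ![2, 2, 3, 3, 1], ![1, 1, 2, 1, 1], ![0, 1, 0, 3, 2]],
    ![![1, 2, 1, 1, 1], ![2, 3, 2, 3, 1], ![2, 2, 3, 0, 0], ![3, 1, 3, 2, 1], ![2, 1, 1, 0, 0]],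
    ![![1, 0, 0, 2, 3], ![1, 0, 2, 0, 3], ![2, 1, 2, 2, 2], ![3, 1, 2, 2, 1], ![3, 3, 0, 0, 2]],
    ![![0, 1, 0, 1, 2], ![3, 1, 1, 3, 3], ![2, 2, 0, 0, 3], ![0, 2, 3, 0, 3], ![1, 3, 2, 1, 3]],
    ![![0, 0, 2, 1, 2], ![2, 1, 2, 2, 1], ![2, 0, 1, 3, 0], ![0, 3, 3, 2, 0], ![2, 1, 3, 1, 1]]]

def bm : Fin 5 → Fin 5 → ℕ := ![![0, 3, 0, 1, 3], ![0, 2, 1, 0, 2], ![1, 3, 3, 2, 2], ![3, 3, 0, 0, 3], ![2, 3, 1, 3, 1]]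

def wm : Fin 5 → Fin 5 → ℕ := ![![0, 3, 0, 0, 0], ![2, 0, 0, 0, 0], ![0, 0, 1, 0, 0], ![0, 0, 0, 0, 1], ![0, 0, 0, 1, 0]]

def cm : Fin 5 → Fin 5 → ℕ := ![![1, 0, 0, 3, 1], ![2, 0, 1, 1, 0], ![1, 2, 1, 2, 2], ![2, 2, 0, 1, 0], ![1, 3, 2, 1, 3]]

def tm : Fin 5 → Fin 5 → ℕ := ![![2, 0, 0, 0, 0], ![0, 1, 0, 0, 0], ![0, 0, 1, 0, 0], ![0, 0, 0, 1, 0], ![0, 0, 0, 0, 3]]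

def pts : Fin 55 → Fin 5 → ℕ :=
  ![![0, 0, 1, 0, 0], ![0, 1, 0, 2, 2], ![0, 1, 0, 3, 2], ![0, 1, 0, 3, 3], ![0, 1, 1, 0, 2],
    ![0, 1, 1, 0, 3], ![0, 1, 1, 1, 0], ![0, 1, 3, 0, 1], ![0, 1, 3, 2, 0], ![0, 1, 3, 3, 0],
    ![1, 0, 0, 1, 1], ![1, 0, 0, 3, 1], ![1, 0, 0, 3, 3], ![1, 0, 1, 0, 1], ![1, 0, 1, 0, 3],
    ![1, 0, 1, 2, 0], ![1, 0, 2, 0, 2], ![1, 0, 2, 1, 0], ![1, 0, 2, 3, 0], ![1, 1, 0, 0, 3],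
    ![1, 1, 1, 0, 0], ![1, 1, 1, 1, 3], ![1, 1, 1, 2, 3], ![1, 1, 2, 0, 0], ![1, 1, 2, 1, 1],
    ![1, 1, 2, 3, 1], ![1, 1, 3, 0, 0], ![1, 1, 3, 2, 2], ![1, 1, 3, 3, 2], ![1, 2, 0, 0, 1],
    ![1, 2, 0, 0, 3], ![1, 2, 0, 1, 0], ![1, 2, 0, 3, 0], ![1, 2, 1, 1, 1], ![1, 2, 1, 1, 3],
    ![1, 2, 1, 2, 3], ![1, 2, 1, 3, 1], ![1, 2, 1, 3, 2], ![1, 2, 2, 1, 2], ![1, 2, 2, 1, 3],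
    ![1, 2, 2, 2, 1], ![1, 2, 2, 3, 1], ![1, 2, 2, 3, 3], ![1, 2, 3, 1, 3], ![1, 2, 3, 3, 1],
    ![1, 3, 0, 1, 0], ![1, 3, 1, 0, 0], ![1, 3, 1, 3, 1], ![1, 3, 1, 3, 3], ![1, 3, 2, 0, 0],
    ![1, 3, 2, 1, 2], ![1, 3, 2, 1, 3], ![1, 3, 3, 0, 0], ![1, 3, 3, 2, 1], ![1, 3, 3, 2, 2]]

def aPerm : Fin 55 → Fin 55 := ![18, 16, 27, 54, 48, 24, 2, 15, 44, 13, 21, 12, 23, 1, 52, 25, 5, 43, 19, 33, 4, 14, 51, 47, 42, 22, 28, 0, 8, 32, 34, 11, 53, 26, 3, 7, 31, 41, 35, 40, 17, 46, 10, 50, 6, 49, 45, 39, 29, 20, 36, 30, 9, 37, 38]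

def aScal : Fin 55 → ℕ := ![3, 2, 2, 1, 1, 2, 3, 2, 1, 1, 3, 3, 2, 1, 1, 3, 2, 1, 1, 1, 1, 2, 2, 2, 1, 1, 1, 3, 2, 2, 3, 1, 1, 1, 3, 2, 1, 3, 1, 2, 3, 3, 2, 1, 2, 2, 1, 2, 3, 3, 2, 1, 3, 3, 1]

def bPerm : Fin 55 → Fin 55 := ![7, 8, 22, 41, 17, 33, 35, 4, 25, 2, 26, 5, 21, 19, 18, 53, 27, 42, 51, 54, 23, 6, 48, 13, 44, 45, 30, 3, 38, 47, 49, 9, 43, 15, 29, 46, 10, 39, 32, 14, 1, 50, 0, 52, 34, 40, 12, 24, 31, 36, 16, 37, 28, 11, 20]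

def bScal : Fin 55 → ℕ := ![1, 1, 1, 2, 2, 1, 2, 3, 1, 1, 2, 2, 1, 3, 2, 2, 1, 1, 3, 1, 3, 2, 3, 3, 1, 3, 3, 2, 1, 2, 3, 3, 2, 3, 2, 1, 1, 3, 1, 2, 3, 1, 1, 2, 1, 3, 2, 2, 3, 2, 2, 1, 2, 3, 1]

def wPerm : Fin 55 → Fin 55 := ![0, 12, 11, 10, 18, 17, 16, 15, 14, 13, 3, 2, 1, 9, 8, 7, 6, 5, 4, 45, 49, 50, 51, 52, 54, 53, 46, 48, 47, 31, 32, 29, 30, 33, 36, 37, 34, 35, 40, 41, 38, 39, 42, 44, 43, 19, 26, 28, 27, 20, 21, 22, 23, 25, 24]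

def wScal : Fin 55 → ℕ := ![1, 3, 3, 3, 3, 3, 3, 3, 3, 3, 2, 2, 2, 2, 2, 2, 2, 2, 2, 3, 3, 3, 3, 3, 3, 3, 3, 3, 3, 1, 1, 1, 1, 1, 1, 1, 1, 1, 1, 1, 1, 1, 1, 1, 1, 2, 2, 2, 2, 2, 2, 2, 2, 2, 2]

def tIdx : Fin 55 := 1

def gramVec : Fin 32 → Fin 5 → ℕ :=
  ![![0, 0, 0, 0, 0],
    ![0, 0, 0, 1, 2],
    ![0, 1, 1, 2, 3],
    ![0, 0, 1, 2, 0],
    ![0, 1, 3, 3, 3],
    ![0, 1, 0, 0, 2],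
    ![0, 0, 0, 1, 3],
    ![0, 0, 1, 0, 3],
    ![0, 1, 0, 3, 0],
    ![0, 1, 1, 3, 3],
    ![0, 0, 1, 1, 0],
    ![0, 0, 1, 0, 1],
    ![0, 1, 0, 1, 0],
    ![0, 0, 0, 1, 1],
    ![0, 0, 1, 0, 2],
    ![0, 1, 1, 0, 0],
    ![0, 0, 1, 2, 1],
    ![0, 1, 2, 2, 0],
    ![0, 0, 1, 1, 1],
    ![0, 1, 1, 0, 2],
    ![0, 0, 1, 0, 0],
    ![0, 0, 1, 1, 3],
    ![0, 0, 0, 0, 1],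
    ![0, 0, 1, 3, 2],
    ![0, 1, 2, 0, 1],
    ![1, 0, 0, 3, 1],
    ![0, 1, 0, 2, 2],
    ![0, 0, 1, 1, 2],
    ![0, 0, 0, 1, 0],
    ![0, 1, 0, 1, 1],
    ![0, 0, 1, 2, 2],
    ![0, 1, 0, 3, 3]]

end CfsgLib.AschPrime.FiveTwo
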